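import Cfsg.Agent.SYL.SR4.KA
import Cfsg.Agent.SPOR.IP.M22
import Cfsg.Agent.S2037
import Cfsg.Agent.S2047
import Cfsg.Agent.S2132
import Cfsg.Agent.S2050
import Cfsg.Agent.S3100

/-! Simple groups of sectional 2-rank at most four: `M₂₂`, `M₂₃`, `McL`, `Ly`. -/

set_option autoImplicit false
set_option linter.unusedSectionVars false

namespace CL.SR4

open Subgroup Cfsg CL.MSS CL.S64

universe u

variable {G : Type u} [Group G] [Finite G] [IsSimpleGroup G]

/-- an elementary abelian subgroup of order 16 of the model -/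
def KM.E : Subgroup Syl.L8.M8 where
  carrier := {w | w.t = false ∧ w.x.s = false ∧ w.x.b = 0}
  one_mem' := by decide
  mul_mem' := fun {a b} => by simp only [Set.mem_ofPred_eq]; revert a b; decide +kernel
  inv_mem' := fun {a} => by simp only [Set.mem_ofPred_eq]; revert a; decide +kernel

/-- `M₂₂`: `CL.IP.W.model` (SPOR/IP/M22) gives one class of involutions and an embedding of the centralizer model `H`, which
contains an elementary abelian subgroup of order 16 (one of `A`, `V`, `U`: check `card_sb` by `decide +kernel`);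
`cov_of_one`. -/
theorem big_M22 : Big Spor.M22 := by
  obtain ⟨φ, hφ, -, h⟩ := IP.W.model
  refine cov_of_one (E := IP.W.A.map φ) ?_ ?_ fun x y hx hy => (h x hx).symm.trans (h y hy)
  · rintro _ ⟨x, hx, rfl⟩
    rw [← map_mul, (by decide +kernel : ∀ x ∈ IP.W.A, x * x = 1) x hx, map_one]
  · rw [card_map_of_injective hφ, IP.W.card_sb]
    decide +kernel

/-- `M₂₃ ≥ M₂₂`, so `¬ SR 3` (`sr_inj` with the inclusion); `nocov_of_mult` with S2037. -/
theorem big_M23 : Big Spor.M23 := by
  refine ⟨fun h => big_M22.1 (sr_inj h (inclusion inf_le_left) (inclusion_injective _)),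
    Or.inl (nocov_of_mult (MulEquiv.refl _) Agent.S2037.result odd_one)⟩

/-- `McL`: S2132: `C(t) / Z ≅ A₈` which is not of sectional rank 3 (file KA; `sr_sub`, `sr_surj`); S2047. -/
theorem big_McL : Big Spor.McL := by
  obtain ⟨-, t, -, -, ⟨e⟩, -⟩ := Agent.S2132.result
  exact ⟨fun h => KA.alt le_rfl (by norm_num) ((sr_equiv e).1 (sr_surj (sr_sub h _) _ (QuotientGroup.mk'_surjective _))),
    Or.inl (nocov_of_mult (MulEquiv.refl _) Agent.S2047.result (by decide))⟩

/-- `Ly`: S2050; `¬ SR 3` from the model `LyS.exists_sy_Ly` (`M8` has the quotient `D₈ ≀ 2 ≥ E₁₆`, or `Q₈ ∘ Q₈`, or an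
involution centralizer statement `2·A₁₁` if it is in the library). -/
theorem big_Ly : Big Spor.Ly := by
  obtain ⟨χ, _, h⟩ := LyS.exists_sy_Ly
  refine ⟨fun h3 => not_sr3_of_ea (E := KM.E) ?_ ?_ (sr_inj h3 χ h.inj),
    Or.inl (nocov_of_mult (MulEquiv.refl _) Agent.S2050.result odd_one)⟩
  · exact (by decide +kernel : ∀ w : Syl.L8.M8, w.t = false ∧ w.x.s = false ∧ w.x.b = 0 → w * w = 1)
  · refine le_trans (by simp) (Nat.card_le_card_of_injective (fun x : Bool × Bool × Bool × Bool =>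
      (⟨LyS.mk ⟨x.1, x.2.1⟩ 0 ⟨x.2.2.1, x.2.2.2⟩ false false, rfl, rfl, rfl⟩ : KM.E)) fun x y e => ?_)
    have := congrArg Subtype.val e
    clear e
    revert x y
    decide +kernel

/-- orders: `MathMdl.card_M22`, `card_M23`, the orders of `McL` and `Ly` (`CL.Ly.card`) -/
theorem kn_M22 (h : Spor.IsoM22 G) : Kn G := by
  obtain ⟨e⟩ := h
  have : Finite Spor.M22 := Finite.of_equiv _ e.toEquiv
  refine (big_M22.of_equiv e).kn ?_
  unfold Out; iterate 16 right
  exact Or.inl ⟨‹_›, (Nat.card_congr e.toEquiv).trans MathMdl.card_M22⟩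

theorem kn_M23 (h : Spor.IsoM23 G) : Kn G := by
  obtain ⟨e⟩ := h
  have : Finite Spor.M23 := Finite.of_equiv _ e.toEquiv
  refine (big_M23.of_equiv e).kn ?_
  unfold Out; iterate 17 right
  exact Or.inl ⟨‹_›, (Nat.card_congr e.toEquiv).trans MathMdl.card_M23⟩

theorem kn_McL (h : Spor.IsoMcL G) : Kn G := by
  obtain ⟨e⟩ := h
  have : Finite Spor.McL := Finite.of_equiv _ e.toEquiv
  refine (big_McL.of_equiv e).kn ?_
  unfold Out; iterate 21 right
  exact Or.inl ⟨‹_›, (Nat.card_congr e.toEquiv).trans Leech.card_McL⟩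

theorem kn_Ly (h : Spor.IsoLy G) : Kn G := by
  obtain ⟨e⟩ := h
  have : Finite Spor.Ly := Finite.of_equiv _ e.toEquiv
  refine (big_Ly.of_equiv e).kn ?_
  unfold Out; iterate 22 right
  exact ⟨‹_›, (Nat.card_congr e.toEquiv).trans Ly.card⟩

/-- S3100 -/
theorem kn_TyLy (hG : ¬ IsMulCommutative G) (h : TyX G Spor.Ly) : Kn G := by
  obtain ⟨S, h⟩ := h
  exact kn_Ly (Agent.S3100.result hG S h)

end CL.SR4
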